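import Cfsg.Agent.Lib.CharP.Basic
import Mathlib.Tactic.Group

/-! Coprime stability, Thompson's P×Q lemma in element form. -/

set_option autoImplicit false

namespace CfsgLib.CharP

variable {G : Type*} [Group G] [Finite G] {p : ℕ} [Fact p.Prime]

/-- `c` of order prime to `p` moving `q` by a fixed `p`-element fixes `q`. -/
theorem fix_of_stab {Q : Subgroup G} (hQ : IsPGroup p Q) {c q d : G}
    (hc : (orderOf c).Coprime p) (hd : d ∈ Q) (hcd : c * d = d * c) (h : c * q * c⁻¹ = q * d) :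
    d = 1 := by
  have hk : ∀ k : ℕ, c ^ k * q * (c ^ k)⁻¹ = q * d ^ k := by
    intro k
    induction k with
    | zero => simp
    | succ k ih =>
      have e2 : c * d ^ k * c⁻¹ = d ^ k := by
        rw [(Commute.pow_right (show Commute c d from hcd) k).eq]
        group
      calc c ^ (k + 1) * q * (c ^ (k + 1))⁻¹ = c * (c ^ k * q * (c ^ k)⁻¹) * c⁻¹ := by
            rw [pow_succ']; group
        _ = c * (q * d ^ k) * c⁻¹ := by rw [ih]
        _ = (c * q * c⁻¹) * (c * d ^ k * c⁻¹) := by group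
        _ = q * d * d ^ k := by rw [h, e2]
        _ = q * d ^ (k + 1) := by rw [pow_succ', mul_assoc]
  have h1 := hk (orderOf c)
  rw [pow_orderOf_eq_one] at h1
  have h2 : d ^ orderOf c = 1 := by simpa using h1.symm
  obtain ⟨m, hm⟩ := hQ ⟨d, hd⟩
  have h3 : d ^ p ^ m = 1 := congrArg Subtype.val hm
  rw [← orderOf_eq_one_iff]
  exact Nat.eq_one_of_dvd_coprimes (hc.pow_right m) (orderOf_dvd_of_pow_eq_one h2)
    (orderOf_dvd_of_pow_eq_one h3)

/-- The `q ∈ Q` version: if `c` centralises `D` and moves `q` inside `qD`, it fixes `q`. -/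
theorem commute_of_stab {Q : Subgroup G} (hQ : IsPGroup p Q) {c q : G}
    (hc : (orderOf c).Coprime p) (hd : q⁻¹ * (c * q * c⁻¹) ∈ Q)
    (hfix : c * (q⁻¹ * (c * q * c⁻¹)) = q⁻¹ * (c * q * c⁻¹) * c) : c * q = q * c := by
  have := fix_of_stab hQ hc hd hfix (q := q) (by group)
  have h2 : c * q * c⁻¹ = q := by
    calc c * q * c⁻¹ = q * (q⁻¹ * (c * q * c⁻¹)) := by group
      _ = q := by rw [this, mul_one]
  calc c * q = c * q * c⁻¹ * c := by group
    _ = q * c := by rw [h2]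

/-- Thompson's `P × Q` lemma, element form. -/
theorem pxq {B U : Subgroup G} (hB : IsPGroup p B) (hU : IsPGroup p U)
    (hBU : B ≤ Subgroup.normalizer (U : Set G)) {c : G} (hc : (orderOf c).Coprime p)
    (hcU : c ∈ Subgroup.normalizer (U : Set G)) (hcB : ∀ b ∈ B, b * c = c * b)
    (hfix : ∀ u ∈ U, (∀ b ∈ B, b * u = u * b) → u * c = c * u) : ∀ u ∈ U, u * c = c * u := by
  set U₀ : Subgroup G := U ⊓ Subgroup.centralizer ({c} : Set G) with hU₀
  have mem₀ : ∀ {u : G}, u ∈ U₀ ↔ u ∈ U ∧ u * c = c * u := by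
    intro u; rw [hU₀, Subgroup.mem_inf, Subgroup.mem_centralizer_singleton_iff]
  set L : Subgroup G := B ⊔ U with hL
  set M : Subgroup G := B ⊔ U₀ with hM
  have hLp : IsPGroup p L := IsPGroup.to_sup_of_normal_right' hB hU hBU
  have hMc : M ≤ Subgroup.centralizer ({c} : Set G) :=
    sup_le (fun b hb => Subgroup.mem_centralizer_singleton_iff.mpr (hcB b hb)) inf_le_right
  by_contra hcon
  push Not at hcon
  obtain ⟨u₁, hu₁, hu₁c⟩ := hcon
  have hML : M ≤ L := sup_le_sup_left inf_le_left B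
  haveI := hLp.isNilpotent
  have hne : M.subgroupOf L < ⊤ := by
    rw [lt_top_iff_ne_top]
    intro h
    rw [Subgroup.subgroupOf_eq_top] at h
    exact hu₁c (Subgroup.mem_centralizer_singleton_iff.mp (hMc (h (Subgroup.mem_sup_right hu₁))))
  obtain ⟨n, hn, hnM⟩ := SetLike.exists_of_lt (normalizerCondition_of_isNilpotent _ hne)
  -- write `n = b u`
  have hnL : (n : G) ∈ (↑(B ⊔ U) : Set G) := n.2
  rw [Subgroup.coe_mul_of_left_le_normalizer_right B U hBU] at hnL
  obtain ⟨b, hb, u, hu, hbu⟩ := Set.mem_mul.mp hnL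
  have huM : ∀ m ∈ M, u * m * u⁻¹ ∈ M := by
    intro m hm
    have h1 : (n : G) * m * (n : G)⁻¹ ∈ M :=
      (Subgroup.mem_normalizer_iff.mp hn ⟨m, hML hm⟩).mp hm
    have h2 : b⁻¹ * ((n : G) * m * (n : G)⁻¹) * b ∈ M :=
      M.mul_mem (M.mul_mem (M.inv_mem (Subgroup.mem_sup_left hb)) h1) (Subgroup.mem_sup_left hb)
    rw [← hbu] at h2
    simpa [mul_assoc] using h2
  have huU₀ : u ∉ U₀ := fun h => hnM (show (n : G) ∈ M by
    rw [← hbu]; exact M.mul_mem (Subgroup.mem_sup_left hb) (Subgroup.mem_sup_right h))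
  -- `c` fixes all `[u,b]`
  have hk : ∀ b' ∈ B, b' * u * b'⁻¹ * u⁻¹ ∈ U₀ := by
    intro b' hb'
    refine mem₀.mpr ⟨U.mul_mem ((Subgroup.mem_normalizer_iff.mp (hBU hb') u).mp hu) (U.inv_mem hu), ?_⟩
    refine Subgroup.mem_centralizer_singleton_iff.mp (hMc ?_)
    have := M.mul_mem (Subgroup.mem_sup_left hb') (huM _ (M.inv_mem (Subgroup.mem_sup_left hb')))
    simpa [mul_assoc] using this
  set d := u⁻¹ * (c * u * c⁻¹) with hd
  have hdU : d ∈ U := U.mul_mem (U.inv_mem hu) ((Subgroup.mem_normalizer_iff.mp hcU u).mp hu)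
  have hdB : ∀ b' ∈ B, b' * d = d * b' := by
    intro b' hb'
    have hcb : b' * c = c * b' := hcB b' hb'
    have hk' := (mem₀.mp (hk b' hb')).2
    set k := b' * u * b'⁻¹ * u⁻¹ with hkdef
    have e1 : b' * (c * u * c⁻¹) * b'⁻¹ = c * (b' * u * b'⁻¹) * c⁻¹ := by
      calc b' * (c * u * c⁻¹) * b'⁻¹ = (b' * c) * u * (b' * c)⁻¹ := by group
        _ = (c * b') * u * (c * b')⁻¹ := by rw [hcb]
        _ = _ := by group
    have e2 : c * k * c⁻¹ = k := by rw [← hk']; group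
    have e3 : b' * d * b'⁻¹ = d := by
      calc b' * d * b'⁻¹ = (b' * u * b'⁻¹)⁻¹ * (b' * (c * u * c⁻¹) * b'⁻¹) := by rw [hd]; group
        _ = (k * u)⁻¹ * (c * (k * u) * c⁻¹) := by rw [e1, hkdef]; group
        _ = u⁻¹ * k⁻¹ * (c * k * c⁻¹) * (c * u * c⁻¹) := by group
        _ = d := by rw [e2, hd]; group
    calc b' * d = b' * d * b'⁻¹ * b' := by group
      _ = d * b' := by rw [e3]
  exact huU₀ (mem₀.mpr ⟨hu, (commute_of_stab hU hc hdU (hfix d hdU hdB).symm).symm⟩)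

end CfsgLib.CharP
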