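import Cfsg.Prelude.Def_Solvable
import Mathlib.GroupTheory.PGroup
import Mathlib.Algebra.Group.Subgroup.Pointwise

/-! Minimal facts on `pCore`. -/

set_option autoImplicit false

namespace CfsgLib.CharP

variable {G : Type*} [Group G] {p : ℕ}

theorem le_pCore' {N : Subgroup G} (hN : N.Normal) (hp : IsPGroup p N) : N ≤ Cfsg.pCore p G :=
  le_sSup ⟨hN, hp⟩

theorem pCore_normal' : (Cfsg.pCore p G).Normal :=
  Subgroup.sSup_normal _ fun _ hN => hN.1

theorem pCore_isPGroup' [Finite G] : IsPGroup p (Cfsg.pCore p G) := by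
  have : ∀ s : Set (Subgroup G), s.Finite → (∀ N ∈ s, N.Normal ∧ IsPGroup p N) →
      (sSup s).Normal ∧ IsPGroup p ↥(sSup s) := by
    intro s hs
    refine Set.Finite.induction_on s hs ?_ ?_
    · intro _
      rw [sSup_empty]
      exact ⟨inferInstance, IsPGroup.of_bot⟩
    · intro N t _ _ ih h
      obtain ⟨h1, h2⟩ := ih fun M hM => h M (Set.mem_insert_of_mem _ hM)
      obtain ⟨h3, h4⟩ := h N (Set.mem_insert _ _)
      rw [sSup_insert]
      have := h1
      have := h3
      exact ⟨inferInstance, IsPGroup.to_sup_of_normal_left h4 h2⟩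
  exact (this _ (Set.toFinite _) fun N hN => hN).2

theorem pCore_characteristic' [Finite G] : (Cfsg.pCore p G).Characteristic := by
  rw [Subgroup.characteristic_iff_map_le]
  intro φ
  exact le_pCore' (pCore_normal'.map _ φ.surjective) (pCore_isPGroup'.map _)

/-- `O_p(R)` seen in `G` is normalised by `R`. -/
theorem le_normalizer_pCore_map (R : Subgroup G) :
    R ≤ Subgroup.normalizer (((Cfsg.pCore p ↥R).map R.subtype : Subgroup G) : Set G) := by
  have := pCore_normal' (G := ↥R) (p := p)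
  have h := Subgroup.le_normalizer_map (H := Cfsg.pCore p ↥R) R.subtype
  rw [Subgroup.normalizer_eq_top, ← MonoidHom.range_eq_map, Subgroup.range_subtype] at h
  exact h

/-- Membership form of `C_R(O_p(R)) ≤ O_p(R)`. -/
theorem mem_pCore_map_of_charP {R : Subgroup G}
    (hR : Subgroup.centralizer (Cfsg.pCore p ↥R : Set ↥R) ≤ Cfsg.pCore p ↥R)
    {y : G} (hyR : y ∈ R) (hy : ∀ q ∈ (Cfsg.pCore p ↥R).map R.subtype, q * y = y * q) :
    y ∈ (Cfsg.pCore p ↥R).map R.subtype := by
  refine ⟨⟨y, hyR⟩, hR (Subgroup.mem_centralizer_iff.mpr fun q hq => ?_), rfl⟩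
  exact Subtype.ext (hy _ ⟨q, hq, rfl⟩)

theorem subgroup_le_pCore_map [Finite G] {E R : Subgroup G} (hER : E ≤ R)
    (hn : R ≤ Subgroup.normalizer (E : Set G)) (hE : IsPGroup p E) :
    E ≤ (Cfsg.pCore p ↥R).map R.subtype := by
  have : (E.subgroupOf R).Normal := Subgroup.normal_subgroupOf_of_le_normalizer hn
  intro e he
  refine ⟨⟨e, hER he⟩, le_pCore' (N := E.subgroupOf R) inferInstance ?_ he, rfl⟩
  exact hE.of_equiv (Subgroup.subgroupOfEquivOfLe hER).symm

end CfsgLib.CharP
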