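import Cfsg.Agent.Lib.CharP.Coprime
import Cfsg.Agent.Lib.CharP.PCore

/-! Local subgroups of groups of characteristic `p`. Throughout, "`X` has characteristic `p`" is
spelled out as `C_X(O_p(X)) ≤ O_p(X)`. -/

set_option autoImplicit false

namespace CfsgLib.CharP

variable {G : Type*} [Group G] [Finite G] {p : ℕ} [Fact p.Prime]

/-- A subgroup in which every element of order prime to `p` is trivial is a `p`-group. -/
theorem isPGroup_of_coprime_trivial (C : Subgroup G)
    (h : ∀ w ∈ C, (orderOf w).Coprime p → w = 1) : IsPGroup p C := by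
  rintro ⟨c, hc⟩
  refine ⟨(orderOf c).factorization p, Subtype.ext ?_⟩
  have hp : p.Prime := Fact.out
  have := h (c ^ p ^ (orderOf c).factorization p) (C.pow_mem hc _) (by
    rw [orderOf_pow_of_dvd (pow_ne_zero _ hp.ne_zero) (Nat.ordProj_dvd _ _)]
    exact (Nat.coprime_ordCompl hp (orderOf_pos c).ne').symm)
  simpa using this

theorem eq_one_of_mem_pgroup {Q : Subgroup G} (hQ : IsPGroup p Q) {w : G} (hw : w ∈ Q)
    (hcop : (orderOf w).Coprime p) : w = 1 := by
  obtain ⟨m, hm⟩ := hQ ⟨w, hw⟩
  have h3 : w ^ p ^ m = 1 := congrArg Subtype.val hm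
  rw [← orderOf_eq_one_iff]
  exact Nat.eq_one_of_dvd_coprimes (hcop.pow_right m) dvd_rfl (orderOf_dvd_of_pow_eq_one h3)

/-- Criterion: `Y` has characteristic `p` if its elements of order prime to `p` that centralise
`O_p(Y)` are trivial. -/
theorem charP_of_coprime_trivial (Y : Subgroup G)
    (h : ∀ w ∈ Y, (∀ q ∈ (Cfsg.pCore p ↥Y).map Y.subtype, q * w = w * q) →
      (orderOf w).Coprime p → w = 1) :
    Subgroup.centralizer (Cfsg.pCore p ↥Y : Set ↥Y) ≤ Cfsg.pCore p ↥Y := by
  have := pCore_normal' (G := ↥Y) (p := p)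
  refine le_pCore' Subgroup.normal_centralizer (isPGroup_of_coprime_trivial _ ?_)
  intro w hw hcop
  refine Subtype.ext (h w w.2 ?_ (by rw [Subgroup.orderOf_coe]; exact hcop))
  rintro _ ⟨q, hq, rfl⟩
  exact congrArg Subtype.val (Subgroup.mem_centralizer_iff.mp hw q hq)

/-- A local subgroup of a group of characteristic `p` has characteristic `p`. -/
theorem charP_inf_normalizer {R B : Subgroup G}
    (hR : Subgroup.centralizer (Cfsg.pCore p ↥R : Set ↥R) ≤ Cfsg.pCore p ↥R)
    (hB : IsPGroup p B) (hBR : B ≤ R) :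
    Subgroup.centralizer (Cfsg.pCore p ↥(R ⊓ Subgroup.normalizer (B : Set G)) :
        Set ↥(R ⊓ Subgroup.normalizer (B : Set G))) ≤
      Cfsg.pCore p ↥(R ⊓ Subgroup.normalizer (B : Set G)) := by
  set Y := R ⊓ Subgroup.normalizer (B : Set G) with hY
  set Q := (Cfsg.pCore p ↥R).map R.subtype with hQ
  have hQp : IsPGroup p Q := pCore_isPGroup'.map _
  have hBY : B ≤ Y := le_inf hBR Subgroup.le_normalizer
  have hBQY : B ≤ (Cfsg.pCore p ↥Y).map Y.subtype :=
    subgroup_le_pCore_map hBY inf_le_right hB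
  have hQY : Q ⊓ Subgroup.normalizer (B : Set G) ≤ (Cfsg.pCore p ↥Y).map Y.subtype := by
    refine subgroup_le_pCore_map (inf_le_inf_right _ (Subgroup.map_subtype_le _)) ?_ (hQp.to_le inf_le_left)
    intro y hy
    rw [Subgroup.mem_normalizer_iff]
    intro n
    simp only [Subgroup.mem_inf]
    rw [Subgroup.mem_normalizer_iff.mp (le_normalizer_pCore_map R hy.1) n]
    refine and_congr_right fun _ => ⟨fun h => ?_, fun h => ?_⟩
    · exact Subgroup.mul_mem _ (Subgroup.mul_mem _ hy.2 h) (Subgroup.inv_mem _ hy.2)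
    · simpa [mul_assoc] using Subgroup.mul_mem _ (Subgroup.mul_mem _ (Subgroup.inv_mem _ hy.2) h) hy.2
  refine charP_of_coprime_trivial Y fun w hw hwc hcop => ?_
  have hall : ∀ u ∈ Q, u * w = w * u := pxq hB hQp (hBR.trans (le_normalizer_pCore_map R)) hcop
    (le_normalizer_pCore_map R hw.1) (fun b hb => hwc b (hBQY hb))
    (fun u hu hub => hwc u (hQY ⟨hu, Subgroup.centralizer_le_normalizer _
      (Subgroup.mem_centralizer_iff.mpr hub)⟩))
  exact eq_one_of_mem_pgroup hQp (mem_pCore_map_of_charP hR hw.1 hall) hcop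

/-- A subgroup normalised by, and contained in, a group of characteristic `p` has characteristic `p`. -/
theorem charP_of_normal {K Y : Subgroup G}
    (hY : Subgroup.centralizer (Cfsg.pCore p ↥Y : Set ↥Y) ≤ Cfsg.pCore p ↥Y)
    (hKY : K ≤ Y) (hn : Y ≤ Subgroup.normalizer (K : Set G)) :
    Subgroup.centralizer (Cfsg.pCore p ↥K : Set ↥K) ≤ Cfsg.pCore p ↥K := by
  set Q := (Cfsg.pCore p ↥Y).map Y.subtype with hQ
  have hQp : IsPGroup p Q := pCore_isPGroup'.map _
  have hYQ : Y ≤ Subgroup.normalizer (Q : Set G) := le_normalizer_pCore_map Y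
  have hQK : Q ⊓ K ≤ (Cfsg.pCore p ↥K).map K.subtype := by
    refine subgroup_le_pCore_map inf_le_right ?_ (hQp.to_le inf_le_left)
    intro y hy
    rw [Subgroup.mem_normalizer_iff]
    intro n
    simp only [Subgroup.mem_inf]
    rw [Subgroup.mem_normalizer_iff.mp (hYQ (hKY hy)) n,
      Subgroup.mem_normalizer_iff.mp (hn (hKY hy)) n]
  refine charP_of_coprime_trivial K fun w hw hwc hcop => ?_
  have hwY := hKY hw
  refine eq_one_of_mem_pgroup hQp (mem_pCore_map_of_charP hY hwY fun q hq => ?_) hcop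
  set d := q⁻¹ * (w * q * w⁻¹) with hd
  have hdQ : d ∈ Q := Q.mul_mem (Q.inv_mem hq) ((Subgroup.mem_normalizer_iff.mp (hYQ hwY) q).mp hq)
  have hdK : d ∈ K := by
    have hqY : q ∈ Y := Subgroup.map_subtype_le _ hq
    have := K.mul_mem ((Subgroup.mem_normalizer_iff.mp (hn (Y.inv_mem hqY)) w).mp hw) (K.inv_mem hw)
    simpa [hd, mul_assoc] using this
  exact (commute_of_stab hQp hcop hdQ (hwc d (hQK ⟨hdQ, hdK⟩)).symm).symm

theorem normalizer_le_normalizer_centralizer (B : Subgroup G) :
    Subgroup.normalizer (B : Set G) ≤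
      Subgroup.normalizer ((Subgroup.centralizer (B : Set G) : Subgroup G) : Set G) := by
  set H := Subgroup.normalizer (B : Set G) with hH
  set D := Subgroup.centralizer (B : Set G) with hD
  have hnD : H ≤ Subgroup.normalizer (D : Set G) := by
    have key : ∀ h ∈ H, ∀ d ∈ D, h * d * h⁻¹ ∈ D := by
      intro h hh d hd
      refine Subgroup.mem_centralizer_iff.mpr fun b hb => ?_
      have hb' : h⁻¹ * b * h ∈ B := (Subgroup.mem_normalizer_iff''.mp hh b).mp hb
      have := Subgroup.mem_centralizer_iff.mp hd _ hb'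
      calc b * (h * d * h⁻¹) = h * (h⁻¹ * b * h * d) * h⁻¹ := by group
        _ = h * (d * (h⁻¹ * b * h)) * h⁻¹ := by rw [this]
        _ = h * d * h⁻¹ * b := by group
    intro h hh
    rw [Subgroup.mem_normalizer_iff]
    intro d
    refine ⟨key h hh d, fun hd => ?_⟩
    simpa [mul_assoc] using key h⁻¹ (H.inv_mem hh) _ hd
  exact hnD

/-- If `C(B)` has characteristic `p` for a `p`-group `B`, so has `N(B)`. -/
theorem charP_normalizer_of_centralizer {B : Subgroup G} (hB : IsPGroup p B)
    (hDchar : Subgroup.centralizer (Cfsg.pCore p ↥(Subgroup.centralizer (B : Set G)) :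
        Set ↥(Subgroup.centralizer (B : Set G))) ≤ Cfsg.pCore p ↥(Subgroup.centralizer (B : Set G))) :
    Subgroup.centralizer (Cfsg.pCore p ↥(Subgroup.normalizer (B : Set G)) :
        Set ↥(Subgroup.normalizer (B : Set G))) ≤ Cfsg.pCore p ↥(Subgroup.normalizer (B : Set G)) := by
  set H := Subgroup.normalizer (B : Set G) with hH
  set D := Subgroup.centralizer (B : Set G) with hD
  have hDH : D ≤ H := Subgroup.centralizer_le_normalizer _
  have hnD : H ≤ Subgroup.normalizer (D : Set G) := normalizer_le_normalizer_centralizer B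
  refine charP_of_coprime_trivial H fun w hw hwc hcop => ?_
  have hwD : w ∈ D := Subgroup.mem_centralizer_iff.mpr fun b hb =>
    hwc b (subgroup_le_pCore_map Subgroup.le_normalizer le_rfl hB hb)
  have hle : (Cfsg.pCore p ↥D).map D.subtype ≤ (Cfsg.pCore p ↥H).map H.subtype := by
    refine subgroup_le_pCore_map ((Subgroup.map_subtype_le _).trans hDH) ?_ (pCore_isPGroup'.map _)
    intro h hh
    have hmap : ((Cfsg.pCore p ↥D).map D.subtype).map (MulAut.conj h).toMonoidHom ≤
        (Cfsg.pCore p ↥D).map D.subtype := by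
      refine subgroup_le_pCore_map ?_ ?_ ((pCore_isPGroup'.map _).map _)
      · intro z hz
        rw [mem_map_conj] at hz
        have := Subgroup.map_subtype_le _ hz
        exact (Subgroup.mem_normalizer_iff''.mp (hnD hh) z).mpr this
      · intro d hd
        rw [Subgroup.mem_normalizer_iff]
        intro z
        rw [mem_map_conj, mem_map_conj]
        have hd' : h⁻¹ * d * h ∈ D := (Subgroup.mem_normalizer_iff''.mp (hnD hh) d).mp hd
        rw [Subgroup.mem_normalizer_iff.mp (le_normalizer_pCore_map D hd') (h⁻¹ * z * h)]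
        simp [mul_assoc]
    rw [Subgroup.mem_normalizer_iff]
    have hinv : ((Cfsg.pCore p ↥D).map D.subtype).map (MulAut.conj h).toMonoidHom =
        (Cfsg.pCore p ↥D).map D.subtype :=
      Subgroup.eq_of_le_of_card_ge hmap (Subgroup.card_map_of_injective (MulAut.conj h).injective).ge
    intro z
    conv_rhs => rw [← hinv, mem_map_conj]
    simp [mul_assoc]
  exact eq_one_of_mem_pgroup (pCore_isPGroup'.map _)
    (mem_pCore_map_of_charP hDchar hwD fun q hq => hwc q (hle hq)) hcop


/-- If `C ⊴ B` are `p`-groups and `N(C)` has characteristic `p`, then so have `N(B)` and `C(B)`. -/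
theorem charP_normalizer_of_normal {B C : Subgroup G} (hB : IsPGroup p B) (hCB : C ≤ B)
    (hn : B ≤ Subgroup.normalizer (C : Set G))
    (hC : Subgroup.centralizer (Cfsg.pCore p ↥(Subgroup.normalizer (C : Set G)) :
        Set ↥(Subgroup.normalizer (C : Set G))) ≤ Cfsg.pCore p ↥(Subgroup.normalizer (C : Set G))) :
    (Subgroup.centralizer (Cfsg.pCore p ↥(Subgroup.normalizer (B : Set G)) :
        Set ↥(Subgroup.normalizer (B : Set G))) ≤ Cfsg.pCore p ↥(Subgroup.normalizer (B : Set G))) ∧
      (Subgroup.centralizer (Cfsg.pCore p ↥(Subgroup.centralizer (B : Set G)) :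
        Set ↥(Subgroup.centralizer (B : Set G))) ≤ Cfsg.pCore p ↥(Subgroup.centralizer (B : Set G))) := by
  set H := Subgroup.normalizer (B : Set G) with hH
  set D := Subgroup.centralizer (B : Set G) with hD
  have hDC : D ≤ Subgroup.normalizer (C : Set G) := fun d hd =>
    Subgroup.centralizer_le_normalizer _
      (Subgroup.mem_centralizer_iff.mpr fun c hc => Subgroup.mem_centralizer_iff.mp hd c (hCB hc))
  have hDH : D ≤ H := Subgroup.centralizer_le_normalizer _
  have hnD : H ≤ Subgroup.normalizer (D : Set G) := normalizer_le_normalizer_centralizer B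
  have hDchar : Subgroup.centralizer (Cfsg.pCore p ↥D : Set ↥D) ≤ Cfsg.pCore p ↥D :=
    charP_of_normal (charP_inf_normalizer hC hB hn) (le_inf hDC hDH) (inf_le_right.trans hnD)
  exact ⟨charP_normalizer_of_centralizer hB hDchar, hDchar⟩

/-- Characteristic `p` is invariant under isomorphism. -/
theorem charP_of_equiv {A : Type*} {B : Type*} [Group A] [Group B] [Finite A] (e : A ≃* B)
    (hA : Subgroup.centralizer (Cfsg.pCore p A : Set A) ≤ Cfsg.pCore p A) :
    Subgroup.centralizer (Cfsg.pCore p B : Set B) ≤ Cfsg.pCore p B := by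
  have he : ∀ a : A, a ∈ Cfsg.pCore p A → e a ∈ Cfsg.pCore p B := fun a ha =>
    le_pCore' (pCore_normal'.map e.toMonoidHom e.surjective) (pCore_isPGroup'.map _) ⟨a, ha, rfl⟩
  intro b hb
  have h1 : e.symm b ∈ Cfsg.pCore p A := hA (Subgroup.mem_centralizer_iff.mpr fun a ha => e.injective (by
    simpa using Subgroup.mem_centralizer_iff.mp hb (e a) (he a ha)))
  simpa using he _ h1

end CfsgLib.CharP
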