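import Mathlib.GroupTheory.Sylow
import Mathlib.GroupTheory.PGroup
import Mathlib.GroupTheory.Nilpotent
import Mathlib.GroupTheory.GroupAction.Quotient

/-! Elementary lemmas on p-subgroups used in local analysis. -/

set_option autoImplicit false

namespace CfsgLib.CharP

variable {G : Type*} [Group G]

theorem mem_map_conj {g x : G} {H : Subgroup G} :
    x ∈ H.map (MulAut.conj g).toMonoidHom ↔ g⁻¹ * x * g ∈ H := by
  rw [Subgroup.mem_map]
  constructor
  · rintro ⟨y, hy, rfl⟩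
    simpa [MulAut.conj_apply, mul_assoc] using hy
  · intro h
    exact ⟨g⁻¹ * x * g, h, by simp [MulAut.conj_apply, mul_assoc]⟩

theorem exists_orderOf_eq_prime {p : ℕ} [Fact p.Prime] [Finite G] (Q : Subgroup G)
    (hQ : IsPGroup p Q) (hQ1 : Q ≠ ⊥) : ∃ x ∈ Q, orderOf x = p := by
  haveI : Nontrivial Q := Q.nontrivial_iff_ne_bot.mpr hQ1
  obtain ⟨n, hn, hc⟩ := hQ.nontrivial_iff_card.mp this
  obtain ⟨x, hx⟩ := exists_prime_orderOf_dvd_card' (G := Q) p (hc ▸ dvd_pow_self p (by omega))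
  exact ⟨x, x.2, by rw [Subgroup.orderOf_coe]; exact hx⟩

theorem exists_center_orderOf_eq_prime {p : ℕ} [Fact p.Prime] [Finite G] (Q : Subgroup G)
    (hQ : IsPGroup p Q) (hQ1 : Q ≠ ⊥) :
    ∃ z ∈ Q, orderOf z = p ∧ ∀ x ∈ Q, x * z = z * x := by
  haveI : Nontrivial Q := Q.nontrivial_iff_ne_bot.mpr hQ1
  haveI := hQ.center_nontrivial
  have hne : Subgroup.center Q ≠ ⊥ := (Subgroup.nontrivial_iff_ne_bot _).mp inferInstance
  obtain ⟨z, hz, ho⟩ := exists_orderOf_eq_prime (Subgroup.center Q) (hQ.to_subgroup _) hne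
  refine ⟨z, z.2, by rw [Subgroup.orderOf_coe]; exact ho, fun x hx => ?_⟩
  exact congrArg Subtype.val (Subgroup.mem_center_iff.mp hz ⟨x, hx⟩)

end CfsgLib.CharP
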