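import Cfsg.Agent.Lib.CharP.Basic
import Mathlib.GroupTheory.IsSubnormal

/-! The trace of a Sylow subgroup on a subnormal subgroup is a Sylow subgroup. -/

set_option autoImplicit false

namespace CfsgLib.CharP

theorem sylow_trace_normal {G : Type*} [Group G] [Finite G] {p : ℕ} [Fact p.Prime] (S : Sylow p G)
    (N : Subgroup G) [N.Normal] :
    ∃ P : Sylow p ↥N, (P : Subgroup ↥N) = (S : Subgroup G).subgroupOf N := by
  have hpg : IsPGroup p ↥((S : Subgroup G).subgroupOf N) :=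
    S.isPGroup'.comap_of_injective _ N.subtype_injective
  obtain ⟨P, hP⟩ := hpg.exists_le_sylow
  refine ⟨P, (Subgroup.eq_of_le_of_card_ge hP ?_).symm⟩
  obtain ⟨Q, hQ⟩ := (P.isPGroup'.map N.subtype).exists_le_sylow
  obtain ⟨g, hg⟩ := MulAction.exists_smul_eq G Q S
  let f : ↥(P : Subgroup N) → ↥((S : Subgroup G).subgroupOf N) := fun x =>
    ⟨⟨g * ((x : ↥N) : G) * g⁻¹, Subgroup.Normal.conj_mem inferInstance _ (x : ↥N).2 g⟩, by
      rw [Subgroup.mem_subgroupOf]
      change g * ((x : ↥N) : G) * g⁻¹ ∈ (S : Subgroup G)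
      rw [← hg, Sylow.coe_subgroup_smul, Subgroup.mem_pointwise_smul_iff_inv_smul_mem]
      simpa [MulAut.smul_def, mul_assoc] using hQ ⟨(x : ↥N), x.2, rfl⟩⟩
  refine Nat.card_le_card_of_injective f fun x y h => ?_
  have := congrArg (fun t : ↥((S : Subgroup G).subgroupOf N) => ((t : ↥N) : G)) h
  simpa [f] using this

theorem sylow_trace_subnormal {G : Type*} [Group G] [Finite G] {p : ℕ} [Fact p.Prime] (S : Sylow p G)
    (K : Subgroup G) (hK : K.IsSubnormal) :
    ∃ P : Sylow p ↥K, (P : Subgroup ↥K).map K.subtype = (S : Subgroup G) ⊓ K := by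
  induction hK with
  | top =>
    obtain ⟨P, hP⟩ := sylow_trace_normal S ⊤
    exact ⟨P, by rw [hP, Subgroup.subgroupOf_map_subtype]⟩
  | step H L hle _ hn ih =>
    obtain ⟨Q, hQ⟩ := ih
    have := hn
    obtain ⟨P, hP⟩ := sylow_trace_normal Q (H.subgroupOf L)
    let e := Subgroup.subgroupOfEquivOfLe hle
    have he : Nat.card ↥((S : Subgroup G).subgroupOf H) = p ^ (Nat.card ↥H).factorization p := by
      rw [← Nat.card_congr e.toEquiv, ← P.card_eq_multiplicity]
      refine Nat.card_congr ((Equiv.subtypeEquiv e.toEquiv fun x => ?_).symm)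
      rw [hP, Subgroup.mem_subgroupOf, Subgroup.mem_subgroupOf]
      have h1 : ((x : ↥L) : G) ∈ (Q : Subgroup ↥L).map L.subtype ↔ (x : ↥L) ∈ (Q : Subgroup ↥L) :=
        Subgroup.mem_map_iff_mem L.subtype_injective
      rw [← h1, hQ]
      exact ⟨fun h => h.1, fun h => ⟨h, (x : ↥L).2⟩⟩
    exact ⟨Sylow.ofCard _ he, Subgroup.subgroupOf_map_subtype _ _⟩

end CfsgLib.CharP
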