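import Cfsg.Prelude.Def_LocalEven
import Cfsg.Agent.Lib.CharP.SylowTrace
import Cfsg.Agent.Lib.Transfer.PResidual
import Cfsg.Agent.Lib.Components.Layer

/-! `p`-minimal groups: basic structure. -/

set_option autoImplicit false

namespace CfsgLib.CharP

open CfsgLib.Components

variable {P : Type*} [Group P] [Finite P] {p : ℕ} [Fact p.Prime]

omit [Fact p.Prime] in
theorem le_of_isPMinimal (hP : Cfsg.IsPMinimal p P) {S : Sylow p P} {M : Subgroup P} (hM : IsCoatom M)
    (hSM : (S : Subgroup P) ≤ M) {X : Subgroup P} (hX : (S : Subgroup P) ≤ X) (hX1 : X ≠ ⊤) : X ≤ M := by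
  obtain ⟨-, M₀, -, huniq⟩ := hP S
  obtain ⟨K, hK, hXK⟩ := (eq_top_or_exists_le_coatom X).resolve_left hX1
  rw [huniq M ⟨hM, hSM⟩, ← huniq K ⟨hK, hX.trans hXK⟩]
  exact hXK

omit [Fact p.Prime] in
theorem sup_eq_top_of_not_le (hP : Cfsg.IsPMinimal p P) {S : Sylow p P} {M : Subgroup P} (hM : IsCoatom M)
    (hSM : (S : Subgroup P) ≤ M) {N : Subgroup P} (hN : ¬ N ≤ M) : N ⊔ (S : Subgroup P) = ⊤ := by
  by_contra h
  exact hN (le_sup_left.trans (le_of_isPMinimal hP hM hSM le_sup_right h))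

theorem pResidual_le_of_sup_eq_top {S : Sylow p P} {N : Subgroup P} [N.Normal]
    (h : N ⊔ (S : Subgroup P) = ⊤) : Cfsg.pResidual p P ≤ N := by
  refine pResidual_le_of_isPGroup_quotient' N ?_
  have hs : (S : Subgroup P).map (QuotientGroup.mk' N) = ⊤ := by
    have := congrArg (Subgroup.map (QuotientGroup.mk' N)) h
    rw [Subgroup.map_sup, Subgroup.map_top_of_surjective _ (QuotientGroup.mk'_surjective N)] at this
    rw [show N.map (QuotientGroup.mk' N) = ⊥ by rw [Subgroup.map_eq_bot_iff, QuotientGroup.ker_mk'], bot_sup_eq] at this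
    exact this
  have hp := S.isPGroup'.map (QuotientGroup.mk' N)
  rw [hs] at hp
  exact hp.of_equiv Subgroup.topEquiv
where
  pResidual_le_of_isPGroup_quotient' (N : Subgroup P) [N.Normal] (h : IsPGroup p (P ⧸ N)) :
      Cfsg.pResidual p P ≤ N := by
    refine (Subgroup.closure_le N).mpr fun g hg => ?_
    rw [SetLike.mem_coe, ← QuotientGroup.eq_one_iff, ← orderOf_eq_one_iff]
    obtain ⟨k, hk⟩ := h (QuotientGroup.mk g)
    refine Nat.eq_one_of_dvd_coprimes (Nat.Coprime.pow_right k hg) (orderOf_map_dvd (QuotientGroup.mk' N) g) ?_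
    exact orderOf_dvd_of_pow_eq_one hk

omit [Fact p.Prime] in
theorem le_normalCore_or_sup_eq_top (hP : Cfsg.IsPMinimal p P) {S : Sylow p P} {M : Subgroup P}
    (hM : IsCoatom M) (hSM : (S : Subgroup P) ≤ M) (N : Subgroup P) [N.Normal] :
    N ≤ M.normalCore ∨ N ⊔ (S : Subgroup P) = ⊤ := by
  by_cases h : N ≤ M
  · exact Or.inl (Subgroup.normal_le_normalCore.mpr h)
  · exact Or.inr (sup_eq_top_of_not_le hP hM hSM h)

/-- A normal subgroup inside `M` meets `S` in `O_p(P)`. -/
theorem normal_inf_sylow_le (hP : Cfsg.IsPMinimal p P) {S : Sylow p P} {M : Subgroup P} (hM : IsCoatom M)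
    (hSM : (S : Subgroup P) ≤ M) (N : Subgroup P) [hN : N.Normal] (hNM : N ≤ M) :
    N ⊓ (S : Subgroup P) ≤ Cfsg.pCore p P := by
  obtain ⟨R, hR⟩ := sylow_trace_normal S N
  have hfr := Sylow.normalizer_sup_eq_top R
  rw [hR, Subgroup.subgroupOf_map_subtype] at hfr
  have hSn : (S : Subgroup P) ≤ Subgroup.normalizer (((S : Subgroup P) ⊓ N : Subgroup P) : Set P) := by
    intro s hs
    rw [Subgroup.mem_normalizer_iff]
    intro n
    simp only [Subgroup.mem_inf]
    rw [Subgroup.mem_normalizer_iff.mp (Subgroup.le_normalizer hs) n]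
    refine and_congr_right fun _ => ⟨fun h => hN.conj_mem n h s, fun h => ?_⟩
    simpa [mul_assoc] using hN.conj_mem _ h s⁻¹
  have htop : Subgroup.normalizer (((S : Subgroup P) ⊓ N : Subgroup P) : Set P) = ⊤ := by
    by_contra h
    have hle := le_of_isPMinimal hP hM hSM hSn h
    exact hM.1 (top_le_iff.mp (hfr ▸ sup_le hle hNM))
  have : ((S : Subgroup P) ⊓ N).Normal := Subgroup.normalizer_eq_top_iff.mp htop
  rw [inf_comm]
  exact le_sSup ⟨this, S.isPGroup'.to_le inf_le_left⟩

/-- A subnormal subgroup inside `M` lies in the core of `M`. -/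
theorem subnormal_le_normalCore (hP : Cfsg.IsPMinimal p P) {S : Sylow p P} {M : Subgroup P}
    (hM : IsCoatom M) (hSM : (S : Subgroup P) ≤ M) {N : Subgroup P} (hN : N.IsSubnormal) (hNM : N ≤ M) :
    N ≤ M.normalCore := by
  set F := M.normalCore with hF
  set π := QuotientGroup.mk' F with hπ
  have hsurj : Function.Surjective π := QuotientGroup.mk'_surjective F
  have hFM : F ≤ M := M.normalCore_le
  set Mb := M.map π with hMb
  have hcomap : ∀ x, π x ∈ Mb → x ∈ M := fun x ⟨m, hm, he⟩ => by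
    rw [QuotientGroup.mk'_eq_mk'] at he
    obtain ⟨z, hz, rfl⟩ := he
    exact M.mul_mem hm (hFM hz)
  -- the image of `M` is core-free
  have hcf : ∀ K : Subgroup (P ⧸ F), K.Normal → K ≤ Mb → K = ⊥ := by
    intro K hK hKM
    have : (K.comap π).Normal := hK.comap π
    have h2 : K.comap π ≤ F := Subgroup.normal_le_normalCore.mpr fun x hx => hcomap x (hKM hx)
    refine eq_bot_iff.mpr fun k hk => ?_
    obtain ⟨x, rfl⟩ := hsurj k
    exact (QuotientGroup.eq_one_iff x).mpr (h2 hk)
  have hmin : ∀ K : Subgroup (P ⧸ F), K.Normal → K ≠ ⊥ →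
      K ⊔ ((S : Subgroup P).map π) = ⊤ := by
    intro K hK hK1
    have : (K.comap π).Normal := hK.comap π
    rcases le_normalCore_or_sup_eq_top hP hM hSM (K.comap π) with h | h
    · exfalso
      refine hK1 (eq_bot_iff.mpr fun k hk => ?_)
      obtain ⟨x, rfl⟩ := hsurj k
      exact (QuotientGroup.eq_one_iff x).mpr (h hk)
    · have := congrArg (Subgroup.map π) h
      rwa [Subgroup.map_sup, Subgroup.map_comap_eq_self_of_surjective hsurj,
        Subgroup.map_top_of_surjective _ hsurj] at this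
  have hSMb : (S : Subgroup P).map π ≤ Mb := Subgroup.map_mono hSM
  by_contra hNF
  have hNb : (N.map π).IsSubnormal := hN.map hsurj
  have hNb1 : N.map π ≠ ⊥ := by
    rw [Ne, Subgroup.map_eq_bot_iff, hπ, QuotientGroup.ker_mk']
    exact hNF
  -- a minimal nontrivial subnormal subgroup
  have hfin : ({L : Subgroup (P ⧸ F) | L.IsSubnormal ∧ L ≠ ⊥ ∧ L ≤ Mb}).Finite := Set.toFinite _
  obtain ⟨L, ⟨hLs, hL1, hLM⟩, hLmin⟩ := hfin.exists_minimal ⟨_, hNb, hNb1, Subgroup.map_mono hNM⟩
  haveI : Nontrivial L := L.nontrivial_iff_ne_bot.mpr hL1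
  haveI : IsSimpleGroup L := by
    refine ⟨fun K hK => ?_⟩
    by_contra hcon
    push Not at hcon
    have hK' : (K.map L.subtype).IsSubnormal :=
      (Subgroup.Normal.isSubnormal hK).trans' hLs
    have hle : K.map L.subtype ≤ L := Subgroup.map_subtype_le K
    have h2 := hLmin ⟨hK', fun h => hcon.1 ((Subgroup.map_eq_bot_iff_of_injective _ L.subtype_injective).mp h),
      hle.trans hLM⟩ hle
    refine hcon.2 (eq_top_iff.mpr fun x _ => ?_)
    obtain ⟨y, hy, hyx⟩ := h2 x.2
    exact (Subtype.ext hyx : y = x) ▸ hy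
  by_cases hab : IsMulCommutative L
  · -- abelian: inside some `O_q`
    obtain ⟨q, hq, hLq⟩ : ∃ q : ℕ, q.Prime ∧ IsPGroup q L := by
      obtain ⟨x, hx⟩ := exists_ne (1 : L)
      haveI : (Subgroup.zpowers x).Normal := ⟨fun n hn g => by rwa [hab.is_comm.comm g n, mul_inv_cancel_right]⟩
      have htop : Subgroup.zpowers x = ⊤ :=
        ((Subgroup.Normal.eq_bot_or_eq_top (H := Subgroup.zpowers x) inferInstance)).resolve_left
          (fun h => hx (Subgroup.zpowers_eq_bot.mp h))
      haveI : IsCyclic L := ⟨⟨x, fun y => Subgroup.mem_zpowers_iff.mp (htop.symm ▸ Subgroup.mem_top y)⟩⟩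
      letI : CommGroup L := { mul_comm := hab.is_comm.comm }
      refine ⟨Nat.card L, IsSimpleGroup.prime_card, IsPGroup.of_card (n := 1) (by rw [pow_one])⟩
    haveI : Fact q.Prime := ⟨hq⟩
    set Q := Cfsg.pCore q (P ⧸ F) with hQ
    haveI hQn : Q.Normal := Subgroup.sSup_normal _ fun _ h => h.1
    have hLQ : L ≤ Q := le_pCore_of_isSubnormal hLs hLq
    have hQp : IsPGroup q Q := isPGroup_pCore q
    have hQS := hmin Q hQn fun h => hL1 (eq_bot_iff.mpr (h ▸ hLQ))
    set A := Q ⊓ Mb with hA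
    have hAn : (S : Subgroup P).map π ≤ Subgroup.normalizer (A : Set (P ⧸ F)) := by
      intro s hs
      rw [Subgroup.mem_normalizer_iff]
      intro n
      simp only [hA, Subgroup.mem_inf]
      rw [Subgroup.mem_normalizer_iff.mp (Subgroup.le_normalizer (hSMb hs)) n]
      refine and_congr_left fun _ => ⟨fun h => hQn.conj_mem n h s, fun h => ?_⟩
      simpa [mul_assoc] using hQn.conj_mem _ h s⁻¹
    have hAQ : A.subgroupOf Q = ⊤ := by
      by_contra hne
      haveI := hQp.isNilpotent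
      obtain ⟨x, hx, hxA⟩ := SetLike.exists_of_lt
        (normalizerCondition_of_isNilpotent _ (lt_top_iff_ne_top.mpr hne))
      -- the normalizer of `A` is not inside `Mb`, hence everything
      have hxM : (x : P ⧸ F) ∉ Mb := fun h => hxA ⟨x.2, h⟩
      have hxn : (x : P ⧸ F) ∈ Subgroup.normalizer (A : Set (P ⧸ F)) := by
        rw [Subgroup.mem_normalizer_iff]
        intro n
        constructor
        · intro hn
          exact (Subgroup.mem_normalizer_iff.mp hx ⟨n, hn.1⟩).mp hn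
        · intro hn
          have hnQ : n ∈ Q := by simpa [mul_assoc] using hQn.conj_mem _ hn.1 (x : P ⧸ F)⁻¹
          exact (Subgroup.mem_normalizer_iff.mp hx ⟨n, hnQ⟩).mpr hn
      set X := (Subgroup.normalizer (A : Set (P ⧸ F))).comap π with hX
      have hSX : (S : Subgroup P) ≤ X := fun s hs => hAn ⟨s, hs, rfl⟩
      have hXtop : X = ⊤ := by
        by_contra h
        obtain ⟨y, hy⟩ := hsurj (x : P ⧸ F)
        exact hxM (hy ▸ ⟨y, le_of_isPMinimal hP hM hSM hSX h (show π y ∈ _ by rw [hy]; exact hxn), rfl⟩)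
      have hAnorm : A.Normal := Subgroup.normalizer_eq_top_iff.mp (eq_top_iff.mpr fun k _ => by
        obtain ⟨y, rfl⟩ := hsurj k
        have hy : y ∈ X := by rw [hXtop]; trivial
        exact hy)
      exact hL1 (eq_bot_iff.mpr ((le_inf hLQ hLM).trans (hcf A hAnorm inf_le_right).le))
    have hQM : Q ≤ Mb := (Subgroup.subgroupOf_eq_top.mp hAQ).trans inf_le_right
    exact hL1 (eq_bot_iff.mpr (hLQ.trans (hcf Q hQn hQM).le))
  · -- component
    have hLc : Cfsg.IsComponent L := ⟨hLs, isQuasisimple_of_isSimpleGroup hab⟩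
    set K := Subgroup.normalClosure (L : Set (P ⧸ F)) with hK
    haveI : K.Normal := Subgroup.normalClosure_normal
    have hK1 : K ≠ ⊥ := fun h => hL1 (eq_bot_iff.mpr (h ▸ Subgroup.subset_normalClosure))
    have hKlayer : K ≤ Cfsg.layer (P ⧸ F) := Subgroup.normalClosure_le_normal (component_le_layer hLc)
    have hKM : K ≤ Mb := by
      refine (Subgroup.closure_le _).mpr fun y hy => ?_
      obtain ⟨l, hl, hconj⟩ := Group.mem_conjugatesOfSet_iff.mp hy
      obtain ⟨g, rfl⟩ := isConj_iff.mp hconj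
      have hg : g ∈ (S : Subgroup P).map π ⊔ K := by rw [sup_comm, hmin K inferInstance hK1]; trivial
      obtain ⟨s, hs, k, hk, rfl⟩ := Subgroup.mem_sup_of_normal_right.mp hg
      have h1 := (Subgroup.mem_normalizer_iff.mp (layer_le_normalizer_component hLc (hKlayer hk)) l).mp hl
      have h2 := Mb.mul_mem (Mb.mul_mem (hSMb hs) (hLM h1)) (Mb.inv_mem (hSMb hs))
      simpa [mul_assoc] using h2
    exact hK1 (hcf K inferInstance hKM)

/-- (1): subnormal subgroups inside `M` meet `S` in `O_p(P)`. -/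
theorem subnormal_inf_sylow_le (hP : Cfsg.IsPMinimal p P) {S : Sylow p P} {M : Subgroup P}
    (hM : IsCoatom M) (hSM : (S : Subgroup P) ≤ M) {N : Subgroup P} (hN : N.IsSubnormal) (hNM : N ≤ M) :
    N ⊓ (S : Subgroup P) ≤ Cfsg.pCore p P :=
  (inf_le_inf_right _ (subnormal_le_normalCore hP hM hSM hN hNM)).trans
    (normal_inf_sylow_le hP hM hSM M.normalCore M.normalCore_le)

end CfsgLib.CharP
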