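import Cfsg.Prelude.Def_LocalStructure
import Cfsg.Prelude.Def_PLocal
import Cfsg.Agent.Lib.CharP.Locals

/-! Parabolic characteristic `p` via centralizers of central elements of order `p`. -/

set_option autoImplicit false

namespace CfsgLib.CharP

variable {G : Type*} [Group G] [Finite G] {p : ℕ} [Fact p.Prime]

theorem centralizer_zpowers_eq (z : G) :
    Subgroup.centralizer ((Subgroup.zpowers z : Subgroup G) : Set G) = Subgroup.centralizer ({z} : Set G) := by
  rw [Subgroup.zpowers_eq_closure, Subgroup.centralizer_closure]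

/-- `C(z)` of characteristic `p`, `z` of `p`-power order central in the `p`-group `X`: so is `N(X)`. -/
theorem charP_normalizer_of_central {X : Subgroup G} (hX : IsPGroup p X) {z : G} (hzX : z ∈ X)
    (hz : ∀ x ∈ X, x * z = z * x)
    (hC : Subgroup.centralizer (Cfsg.pCore p ↥(Subgroup.centralizer ({z} : Set G)) :
      Set ↥(Subgroup.centralizer ({z} : Set G))) ≤ Cfsg.pCore p ↥(Subgroup.centralizer ({z} : Set G))) :
    Subgroup.centralizer (Cfsg.pCore p ↥(Subgroup.normalizer (X : Set G)) :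
      Set ↥(Subgroup.normalizer (X : Set G))) ≤ Cfsg.pCore p ↥(Subgroup.normalizer (X : Set G)) := by
  rw [← centralizer_zpowers_eq] at hC
  refine (charP_normalizer_of_normal hX (Subgroup.zpowers_le.mpr hzX) ?_
    (charP_normalizer_of_centralizer (hX.to_le (Subgroup.zpowers_le.mpr hzX)) hC)).1
  intro x hx
  refine Subgroup.centralizer_le_normalizer _ ?_
  rw [centralizer_zpowers_eq, Subgroup.mem_centralizer_singleton_iff]
  exact hz x hx

/-- Characteristic `p` of `C(z)` is a conjugation invariant. -/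
theorem charP_centralizer_conj (g z : G)
    (hC : Subgroup.centralizer (Cfsg.pCore p ↥(Subgroup.centralizer ({z} : Set G)) :
      Set ↥(Subgroup.centralizer ({z} : Set G))) ≤ Cfsg.pCore p ↥(Subgroup.centralizer ({z} : Set G))) :
    Subgroup.centralizer (Cfsg.pCore p ↥(Subgroup.centralizer ({g * z * g⁻¹} : Set G)) :
      Set ↥(Subgroup.centralizer ({g * z * g⁻¹} : Set G))) ≤
        Cfsg.pCore p ↥(Subgroup.centralizer ({g * z * g⁻¹} : Set G)) := by
  have e : (Subgroup.centralizer ({z} : Set G)).map (MulAut.conj g).toMonoidHom =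
      Subgroup.centralizer ({g * z * g⁻¹} : Set G) := by
    ext x
    rw [mem_map_conj, Subgroup.mem_centralizer_singleton_iff, Subgroup.mem_centralizer_singleton_iff]
    constructor
    · intro h
      calc x * (g * z * g⁻¹) = g * ((g⁻¹ * x * g) * z) * g⁻¹ := by group
        _ = g * (z * (g⁻¹ * x * g)) * g⁻¹ := by rw [h]
        _ = g * z * g⁻¹ * x := by group
    · intro h
      calc g⁻¹ * x * g * z = g⁻¹ * (x * (g * z * g⁻¹)) * g := by group
        _ = g⁻¹ * ((g * z * g⁻¹) * x) * g := by rw [h]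
        _ = z * (g⁻¹ * x * g) := by group
  rw [← e]
  exact charP_of_equiv ((Subgroup.centralizer ({z} : Set G)).equivMapOfInjective _
    (MulAut.conj g).injective) hC

theorem mem_omegaOne_of {H : Subgroup G} {z : G} (hz : z ∈ H) (hzp : z ^ p = 1) :
    z ∈ Cfsg.omegaOne p H := Subgroup.subset_closure ⟨hz, hzp⟩

theorem omegaOne_le (H : Subgroup G) : Cfsg.omegaOne p H ≤ H :=
  (Subgroup.closure_le H).mpr fun _ hx => hx.1

theorem parabolic_centralizer (hG : Cfsg.IsOfParabolicCharacteristic p G) (S : Sylow p G) {z : G}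
    (hz1 : z ≠ 1) (hzS : z ∈ (S : Subgroup G)) (hc : ∀ s ∈ (S : Subgroup G), s * z = z * s) :
    Subgroup.centralizer (Cfsg.pCore p ↥(Subgroup.centralizer ({z} : Set G)) :
      Set ↥(Subgroup.centralizer ({z} : Set G))) ≤ Cfsg.pCore p ↥(Subgroup.centralizer ({z} : Set G)) := by
  rw [← centralizer_zpowers_eq]
  refine charP_of_normal (hG _ (S.isPGroup'.to_le (Subgroup.zpowers_le.mpr hzS))
    (by rwa [Ne, Subgroup.zpowers_eq_bot]) ⟨S, ?_⟩) (Subgroup.centralizer_le_normalizer _)
    (normalizer_le_normalizer_centralizer _)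
  intro s hs
  refine Subgroup.centralizer_le_normalizer _ ?_
  rw [centralizer_zpowers_eq, Subgroup.mem_centralizer_singleton_iff]
  exact hc s hs

/-- Converse: centralizers of the central elements of order `p` of one Sylow subgroup suffice. -/
theorem parabolic_of_centralizers (S : Sylow p G)
    (h : ∀ z ∈ (S : Subgroup G), orderOf z = p → (∀ s ∈ (S : Subgroup G), s * z = z * s) →
      Subgroup.centralizer (Cfsg.pCore p ↥(Subgroup.centralizer ({z} : Set G)) :
        Set ↥(Subgroup.centralizer ({z} : Set G))) ≤ Cfsg.pCore p ↥(Subgroup.centralizer ({z} : Set G))) :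
    Cfsg.IsOfParabolicCharacteristic p G := by
  intro R hR hR1 ⟨T, hT⟩
  have hRT : R ≤ (T : Subgroup G) := by
    have h1 : IsPGroup p ↥((T : Subgroup G) ⊔ R) := IsPGroup.to_sup_of_normal_right' T.isPGroup' hR hT
    exact le_sup_right.trans (T.is_maximal' h1 le_sup_left).le
  haveI : (R.subgroupOf (T : Subgroup G)).Normal := Subgroup.normal_subgroupOf_of_le_normalizer hT
  -- a fixed point of `T` in `R`
  obtain ⟨z₀, hz₀R, hz₀, hfix⟩ : ∃ z ∈ R, z ≠ 1 ∧ ∀ t ∈ (T : Subgroup G), t * z = z * t := by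
    haveI : Finite (T : Subgroup G) := inferInstance
    have hne : R.subgroupOf (T : Subgroup G) ≠ ⊥ := by
      rw [Ne, Subgroup.subgroupOf_eq_bot]
      exact fun hd => hR1 (eq_bot_iff.mpr fun x hx => hd.le_bot ⟨hx, hRT hx⟩)
    have hp : p ∣ Nat.card (R.subgroupOf (T : Subgroup G)) := by
      obtain ⟨x, hx, ho⟩ := exists_orderOf_eq_prime _ (hR.of_equiv (Subgroup.subgroupOfEquivOfLe hRT).symm) hne
      have := Subgroup.orderOf_dvd_natCard _ hx
      rwa [ho] at this
    have hact : IsPGroup p (ConjAct ↥(T : Subgroup G)) := T.isPGroup'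
    obtain ⟨z, hz, hz1⟩ := hact.exists_fixed_point_of_prime_dvd_card_of_fixed_point
      (R.subgroupOf (T : Subgroup G)) hp
      (show (1 : R.subgroupOf (T : Subgroup G)) ∈ MulAction.fixedPoints (ConjAct ↥(T : Subgroup G)) _ from
        fun t => smul_one t)
    refine ⟨((z : ↥(T : Subgroup G)) : G), z.2, fun hh => hz1 (Subtype.ext (Subtype.ext hh)).symm, fun t ht => ?_⟩
    have h2 : ((⟨t, ht⟩ : ↥(T : Subgroup G)) * z * (⟨t, ht⟩)⁻¹ : ↥(T : Subgroup G)) = z :=
      congrArg Subtype.val (hz (ConjAct.toConjAct ⟨t, ht⟩))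
    have h3 := congrArg Subtype.val h2
    simp only [Subgroup.coe_mul, Subgroup.coe_inv] at h3
    calc t * ((z : ↥(T : Subgroup G)) : G) = t * z * t⁻¹ * t := by group
      _ = _ := by rw [h3]
  obtain ⟨z, hz, hzo⟩ := exists_orderOf_eq_prime (Subgroup.zpowers z₀)
    (hR.to_le (Subgroup.zpowers_le.mpr hz₀R)) (by rwa [Ne, Subgroup.zpowers_eq_bot])
  have hzR : z ∈ R := Subgroup.zpowers_le.mpr hz₀R hz
  have hzc : ∀ t ∈ (T : Subgroup G), t * z = z * t := by
    intro t ht
    obtain ⟨k, rfl⟩ := Subgroup.mem_zpowers_iff.mp hz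
    exact (Commute.zpow_right (show Commute t z₀ from hfix t ht) k).eq
  obtain ⟨g, hg⟩ := MulAction.exists_smul_eq G S T
  have memS : ∀ s : G, s ∈ (S : Subgroup G) ↔ g * s * g⁻¹ ∈ (T : Subgroup G) := by
    intro s
    rw [← hg, Sylow.coe_subgroup_smul, Subgroup.mem_pointwise_smul_iff_inv_smul_mem]
    simp [MulAut.smul_def, mul_assoc]
  have hw := h (g⁻¹ * z * g) ((memS _).mpr (by simpa [mul_assoc] using hRT hzR))
    (by rw [← hzo]; simpa using (MulAut.conj g⁻¹).orderOf_eq z)
    (fun s hs => by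
      have := hzc _ ((memS s).mp hs)
      calc s * (g⁻¹ * z * g) = g⁻¹ * (g * s * g⁻¹ * z) * g := by group
        _ = g⁻¹ * (z * (g * s * g⁻¹)) * g := by rw [this]
        _ = g⁻¹ * z * g * s := by group)
  have hC := charP_centralizer_conj g _ hw
  rw [show g * (g⁻¹ * z * g) * g⁻¹ = z by group] at hC
  exact charP_normalizer_of_central hR hzR (fun x hx => hzc x (hRT hx)) hC

end CfsgLib.CharP
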